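import Mathlib
import Cfsg.Agent.Lib.Linear.HermStandard
import Cfsg.Agent.Lib.Linear.HermParabolic
import Cfsg.Agent.Lib.Linear.UnitaryCenter

/-!
# Involutions of PSU(6, 2) lift to involutions in central extensions by groups of exponent two
-/

set_option autoImplicit false

namespace Cfsg.Lib.Linear.UnitarySix

open Cfsg.Lib.Linear.Herm Module

variable {F : Type*} [Field F] [Fintype F] (hF : Fintype.card F = 2 ^ 2)

local notation "V" => Fin 6 → F

include hF

theorem two_eq_zero : (2 : F) = 0 := by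
  have h := FiniteField.cast_card_eq_zero F
  rw [hF, Nat.cast_pow] at h
  simpa using h

theorem pow_four (a : F) : a ^ 4 = a := by
  have h := FiniteField.pow_card a
  rw [hF] at h
  simpa using h

theorem add_self' (v : V) : v + v = 0 := by
  rw [← two_smul F v, two_eq_zero hF, zero_smul]

theorem add_self_end (f : Module.End F V) : f + f = 0 := by
  rw [← two_smul F f, two_eq_zero hF, zero_smul]

/-- The linear map of an element of the special unitary group. -/
def toE (A : Cfsg.SU 6 F 2) : Module.End F V :=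
  Matrix.toLin' ((A : Matrix.SpecialLinearGroup (Fin 6) F) : Matrix (Fin 6) (Fin 6) F)

omit hF in
theorem toE_mul (A B : Cfsg.SU 6 F 2) : toE (A * B) = toE A * toE B := by
  simp [toE, Matrix.toLin'_mul, Module.End.mul_eq_comp]

omit hF in
theorem toE_one : toE (1 : Cfsg.SU 6 F 2) = 1 := by
  simp [toE, Module.End.one_eq_id]

omit hF in
theorem toE_injective : Function.Injective (toE (F := F)) := fun A B h =>
  Subtype.ext (Subtype.ext (Matrix.toLin'.injective h))

theorem toE_isometry (A : Cfsg.SU 6 F 2) (x y : V) :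
    hB hF 6 (toE A x) (toE A y) = hB hF 6 x y := by
  rw [hB_apply, hB_apply, toE, Matrix.toLin'_apply, Matrix.toLin'_apply]
  exact A.2 y x

theorem exists_toE {f : Module.End F V} (hf : ∀ x y, hB hF 6 (f x) (f y) = hB hF 6 x y)
    (h4 : f ^ 4 = 1) : ∃ A : Cfsg.SU 6 F 2, toE A = f := by
  have hdet : (LinearMap.toMatrix' f).det = 1 := by
    rw [LinearMap.det_toMatrix', ← pow_four hF (LinearMap.det f), ← map_pow, h4, map_one]
  refine ⟨⟨⟨_, hdet⟩, fun u v => ?_⟩, by simp [toE]⟩
  show Cfsg.hermForm 6 F 2 _ _ = _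
  have h := hf v u
  rw [hB_apply, hB_apply] at h
  convert h using 2 <;> exact LinearMap.toMatrix'_mulVec f _

/-- The rank-one self-adjoint map of a vector. -/
noncomputable def N (v : V) : Module.End F V := (hB hF 6 v).smulRight v

@[simp] theorem N_apply (v y : V) : N hF v y = hB hF 6 v y • v := rfl

theorem h_conj (x y : V) : frob hF (hB hF 6 x y) = hB hF 6 y x := (hB_isSymm hF 6).eq x y

theorem h_smul_left (c : F) (x y : V) : hB hF 6 (c • x) y = frob hF c * hB hF 6 x y := by
  rw [LinearMap.map_smulₛₗ, LinearMap.smul_apply, smul_eq_mul]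

theorem h_smul_right (c : F) (x y : V) : hB hF 6 x (c • y) = c * hB hF 6 x y := by
  rw [map_smul, smul_eq_mul]

theorem h_add_left (x x' y : V) : hB hF 6 (x + x') y = hB hF 6 x y + hB hF 6 x' y := by
  rw [map_add, LinearMap.add_apply]

/-- Self-adjointness. -/
def SelfAdj (n : Module.End F V) : Prop := ∀ x y, hB hF 6 (n x) y = hB hF 6 x (n y)

theorem selfAdj_N (v : V) : SelfAdj hF (N hF v) := fun x y => by
  rw [N_apply, N_apply, h_smul_left, h_smul_right, h_conj, mul_comm]

theorem N_sq {v : V} (hv : hB hF 6 v v = 0) : N hF v * N hF v = 0 :=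
  LinearMap.ext fun y => by simp [Module.End.mul_apply, hv]

theorem N_mul {v w : V} (hvw : hB hF 6 v w = 0) : N hF v * N hF w = 0 :=
  LinearMap.ext fun y => by simp [Module.End.mul_apply, hvw]

theorem one_add_sq {n : Module.End F V} (hn : n * n = 0) : (1 + n) * (1 + n) = 1 := by
  rw [add_mul, one_mul, mul_add, mul_one, hn, add_zero, add_assoc, add_self_end hF, add_zero]

theorem exists_one_add {n : Module.End F V} (hs : SelfAdj hF n) (hn : n * n = 0) :
    ∃ A : Cfsg.SU 6 F 2, toE A = 1 + n := by
  refine exists_toE hF (fun x y => ?_) ?_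
  · have e : n (n y) = 0 := LinearMap.congr_fun hn y
    rw [LinearMap.add_apply, LinearMap.add_apply, Module.End.one_apply, Module.End.one_apply,
      h_add_left, map_add, map_add, hs x y, hs x (n y), e, map_zero, add_zero]
    linear_combination hB hF 6 x (n y) * two_eq_zero hF
  · rw [show (4 : ℕ) = 2 * 2 from rfl, pow_mul, pow_two (1 + n), one_add_sq hF hn, one_pow]

open Classical in
/-- The element one plus a map, where there is one. -/
noncomputable def el (n : Module.End F V) : Cfsg.SU 6 F 2 :=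
  if h : ∃ A : Cfsg.SU 6 F 2, toE A = 1 + n then h.choose else 1

theorem toE_el {n : Module.End F V} (hs : SelfAdj hF n) (hn : n * n = 0) : toE (el n) = 1 + n := by
  classical
  rw [el, dif_pos (exists_one_add hF hs hn)]
  exact (exists_one_add hF hs hn).choose_spec

/-- The transvection of a vector. -/
noncomputable def T (v : V) : Cfsg.SU 6 F 2 := el (N hF v)

theorem toE_T {v : V} (hv : hB hF 6 v v = 0) : toE (T hF v) = 1 + N hF v :=
  toE_el hF (selfAdj_N hF v) (N_sq hF hv)

theorem el_zero : el (0 : Module.End F V) = (1 : Cfsg.SU 6 F 2) := by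
  refine toE_injective ?_
  rw [toE_el hF (fun x y => by simp) (mul_zero _), add_zero, toE_one]

theorem exists_omega : ∃ ω : F, ω + frob hF ω = 1 ∧ ω * ω + ω + 1 = 0 ∧ ω * frob hF ω = 1 := by
  classical
  obtain ⟨ω, h0, h1⟩ : ∃ ω : F, ω ≠ 0 ∧ ω ≠ 1 := by
    by_contra hne
    push Not at hne
    have hle : (Finset.univ : Finset F) ⊆ {0, 1} := fun a _ => by
      by_cases ha : a = 0 <;> simp [ha, hne a]
    have := (Finset.card_le_card hle).trans Finset.card_le_two
    rw [Finset.card_univ, hF] at this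
    omega
  have h3 : ω ^ 3 = 1 := by
    apply mul_left_cancel₀ h0
    rw [← pow_succ', pow_four hF, mul_one]
  have hq : ω * ω + ω + 1 = 0 := by
    apply mul_left_cancel₀ (sub_ne_zero.2 h1)
    linear_combination h3
  refine ⟨ω, ?_, hq, ?_⟩
  · rw [frob_apply]
    linear_combination hq - two_eq_zero hF
  · rw [frob_apply]
    linear_combination h3

theorem h_self_cases (x : V) : hB hF 6 x x = 0 ∨ hB hF 6 x x = 1 := by
  have h := h_conj hF x x
  rw [frob_apply] at h
  rcases eq_or_ne (hB hF 6 x x) 0 with h0 | h0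
  · exact Or.inl h0
  · exact Or.inr (mul_left_cancel₀ h0 (by rw [← pow_two, h, mul_one]))

theorem exists_self_ne_zero {n : Module.End F V} (hs : SelfAdj hF n) {W : Submodule F V}
    {x y : V} (hx : x ∈ W) (hy : y ∈ W) (hne : hB hF 6 (n x) y ≠ 0) :
    ∃ z ∈ W, hB hF 6 (n z) z = 1 := by
  obtain ⟨ω, hω, -, -⟩ := exists_omega hF
  have hval : ∀ z, hB hF 6 (n z) z = 0 ∨ hB hF 6 (n z) z = 1 := fun z => by
    have h : frob hF (hB hF 6 (n z) z) = hB hF 6 (n z) z := by rw [h_conj, ← hs]
    rw [frob_apply] at h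
    rcases eq_or_ne (hB hF 6 (n z) z) 0 with h0 | h0
    · exact Or.inl h0
    · exact Or.inr (mul_left_cancel₀ h0 (by rw [← pow_two, h, mul_one]))
  by_contra hno
  push Not at hno
  have hzero : ∀ z ∈ W, hB hF 6 (n z) z = 0 := fun z hz => (hval z).resolve_right (hno z hz)
  set a := hB hF 6 (n x) y
  set c : F := ω * a⁻¹
  have h := hzero _ (W.add_mem hx (W.smul_mem c hy))
  have e : hB hF 6 (n y) x = frob hF a := by rw [h_conj, hs]
  rw [n.map_add, n.map_smul, h_add_left, map_add, map_add, h_smul_left, h_smul_left, h_smul_right,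
    h_smul_right, hzero x hx, hzero y hy, e, mul_zero, mul_zero, add_zero, zero_add] at h
  have hca : c * a = ω := inv_mul_cancel_right₀ hne ω
  rw [show hB hF 6 (n x) y = a from rfl, ← map_mul, hca, hω] at h
  exact one_ne_zero h

theorem exists_norm_one (W : Submodule F V) (hW : 4 ≤ finrank F W) :
    ∃ a ∈ W, hB hF 6 a a = 1 := by
  have hns : ¬ W ≤ perp hF W := fun hle => by
    have h1 := Submodule.finrank_mono hle
    have h2 := finrank_perp hF W
    omega
  obtain ⟨x, hx, hxn⟩ := SetLike.not_le_iff_exists.1 hns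
  obtain ⟨y, hy, hne⟩ : ∃ y ∈ W, hB hF 6 y x ≠ 0 := by
    by_contra hall
    push Not at hall
    exact hxn hall
  obtain ⟨z, hz, h⟩ := exists_self_ne_zero hF (n := 1) (fun _ _ => rfl) hy hx hne
  exact ⟨z, hz, h⟩

theorem exists_perp_norm_one (v w : V) :
    ∃ a, hB hF 6 v a = 0 ∧ hB hF 6 w a = 0 ∧ hB hF 6 a a = 1 := by
  classical
  have h1 := finrank_perp hF (Submodule.span F ({v, w} : Set V))
  have h2 : finrank F (Submodule.span F ({v, w} : Set V)) ≤ 2 := by
    have := finrank_span_finset_le_card (R := F) ({v, w} : Finset V)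
    rw [Finset.coe_pair] at this
    exact this.trans Finset.card_le_two
  obtain ⟨a, ha, hna⟩ := exists_norm_one hF (perp hF (Submodule.span F ({v, w} : Set V))) (by omega)
  exact ⟨a, ha v (Submodule.subset_span (by simp)), ha w (Submodule.subset_span (by simp)), hna⟩

/-- A transvection is the square of an element centralising an orthogonal one. -/
theorem exists_root {v w : V} (hv : hB hF 6 v v = 0) (hw : hB hF 6 w w = 0)
    (hvw : hB hF 6 v w = 0) : ∃ g : Cfsg.SU 6 F 2, g * g = T hF w ∧ g * T hF v = T hF v * g := by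
  obtain ⟨a, hva, hwa, haa⟩ := exists_perp_norm_one hF v w
  obtain ⟨ω, hω, -, -⟩ := exists_omega hF
  have haw : hB hF 6 a w = 0 := hB_symm_zero hF hwa
  have hwv : hB hF 6 w v = 0 := hB_symm_zero hF hvw
  have hav : hB hF 6 a v = 0 := hB_symm_zero hF hva
  obtain ⟨m, hm⟩ : ∃ m : Module.End F V,
      ∀ y, m y = hB hF 6 w y • a + hB hF 6 a y • w + (ω * hB hF 6 w y) • w :=
    ⟨(hB hF 6 w).smulRight a + (hB hF 6 a).smulRight w + ω • N hF w, fun y => by simp [N, smul_smul]⟩
  have hmm : m * m = N hF w := LinearMap.ext fun y => by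
    rw [Module.End.mul_apply, hm (m y), hm y]
    simp only [map_add, h_smul_right, hw, hwa, haw, haa, N_apply, mul_zero, mul_one, add_zero, zero_add,
      zero_smul]
  have hg2 : (1 + m) * (1 + m) = 1 + N hF w := by
    rw [add_mul, one_mul, mul_add, mul_one, hmm, add_assoc, ← add_assoc m, add_self_end hF, zero_add]
  have hg4 : (1 + m) ^ 4 = 1 := by
    rw [show (4 : ℕ) = 2 * 2 from rfl, pow_mul, pow_two (1 + m), hg2, pow_two,
      one_add_sq hF (N_sq hF hw)]
  obtain ⟨g, hg⟩ := exists_toE hF (f := 1 + m) (fun x y => by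
    rw [LinearMap.add_apply, LinearMap.add_apply, Module.End.one_apply, Module.End.one_apply, hm, hm]
    simp only [map_add, LinearMap.add_apply, h_smul_left, h_smul_right, map_mul, hw, hwa, haw, haa,
      mul_zero, mul_one, add_zero, zero_add, h_conj]
    linear_combination (hB hF 6 x w * hB hF 6 w y) * hω
      + (hB hF 6 x a * hB hF 6 w y + hB hF 6 x w * hB hF 6 a y + hB hF 6 x w * hB hF 6 w y) *
        two_eq_zero hF) hg4
  refine ⟨g, toE_injective ?_, toE_injective ?_⟩
  · rw [toE_mul, hg, toE_T hF hw, hg2]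
  · rw [toE_mul, toE_mul, hg, toE_T hF hv]
    have h1 : m * N hF v = 0 := LinearMap.ext fun y => by
      simp [Module.End.mul_apply, hm, hwv, hav]
    have h2 : N hF v * m = 0 := LinearMap.ext fun y => by
      simp [Module.End.mul_apply, hm, hvw, hva]
    rw [add_mul, add_mul, one_mul, one_mul, mul_add, mul_add, mul_one, mul_one, h1, h2, add_zero,
      add_zero]
    abel

/-- Transvections of vectors of product one are conjugate. -/
theorem T_braid {v u : V} (hv : hB hF 6 v v = 0) (hu : hB hF 6 u u = 0) (hvu : hB hF 6 v u = 1) :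
    T hF v * T hF u * T hF v * (T hF u * T hF v) = T hF u := by
  have huv : hB hF 6 u v = 1 := by rw [← h_conj, hvu, map_one]
  have key : ∀ a b : V, hB hF 6 a a = 0 → hB hF 6 b b = 0 → hB hF 6 a b = 1 → hB hF 6 b a = 1 →
      (1 + N hF a) * (1 + N hF b) * (1 + N hF a) = 1 + N hF (a + b) := by
    intro a b ha hb hab hba
    refine LinearMap.ext fun y => ?_
    simp only [Module.End.mul_apply, LinearMap.add_apply, Module.End.one_apply, N_apply, map_add,
      h_smul_right, ha, hb, hab, hba, mul_zero, mul_one, add_zero, zero_add]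
    linear_combination (norm := module) add_self' hF (hB hF 6 a y • a)
  have hsq : T hF u * T hF u = 1 := toE_injective (by
    rw [toE_mul, toE_T hF hu, one_add_sq hF (N_sq hF hu), toE_one])
  have e : T hF v * T hF u * T hF v = T hF u * T hF v * T hF u := toE_injective (by
    rw [toE_mul, toE_mul, toE_mul, toE_mul, toE_T hF hv, toE_T hF hu, key v u hv hu hvu huv,
      key u v hu hv huv hvu, add_comm v u])
  have hsv : T hF v * T hF v = 1 := toE_injective (by
    rw [toE_mul, toE_T hF hv, one_add_sq hF (N_sq hF hv), toE_one])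
  calc T hF v * T hF u * T hF v * (T hF u * T hF v)
      = T hF u * T hF v * (T hF u * T hF u) * T hF v := by rw [e]; simp only [mul_assoc]
    _ = T hF u := by rw [hsq, mul_one, mul_assoc, hsv, mul_one]

theorem exists_dual {v w : V} (hind : LinearIndependent F ![v, w]) :
    ∃ y, hB hF 6 v y = 1 ∧ hB hF 6 w y = 0 := by
  by_contra hno
  push Not at hno
  have hz : ∀ y, hB hF 6 w y = 0 → hB hF 6 v y = 0 := fun y hy => by
    by_contra hne
    exact hno ((hB hF 6 v y)⁻¹ • y) (by rw [h_smul_right, inv_mul_cancel₀ hne])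
      (by rw [h_smul_right, hy, mul_zero])
  have hle : perp hF (Submodule.span F ({w} : Set V)) ≤ perp hF (Submodule.span F ({v, w} : Set V)) := by
    intro y hy x hx
    obtain ⟨s, t, rfl⟩ := Submodule.mem_span_pair.1 hx
    have hwy := hy w (Submodule.subset_span (by simp))
    rw [h_add_left, h_smul_left, h_smul_left, hwy, hz y hwy, mul_zero, mul_zero, add_zero]
  have h1 := Submodule.finrank_mono hle
  have h2 := finrank_perp hF (Submodule.span F ({v, w} : Set V))
  have h3 := finrank_perp hF (Submodule.span F ({w} : Set V))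
  have h4 : finrank F (Submodule.span F (Set.range ![v, w])) = 2 := by
    rw [finrank_span_eq_card hind, Fintype.card_fin]
  rw [Matrix.range_cons_cons_empty] at h4
  have h5 : finrank F (Submodule.span F ({w} : Set V)) ≤ 1 :=
    (finrank_span_le_card _).trans (by simp)
  omega

theorem exists_common {v w : V} (hv : hB hF 6 v v = 0) (hvw : hB hF 6 v w = 0)
    (hind : LinearIndependent F ![v, w]) :
    ∃ u, hB hF 6 u u = 0 ∧ hB hF 6 v u = 1 ∧ hB hF 6 w u = 1 := by
  obtain ⟨y, hy1, hy2⟩ := exists_dual hF hind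
  obtain ⟨y', hy3, hy4⟩ := exists_dual hF (v := w) (w := v) (LinearIndependent.pair_symm_iff.1 hind)
  obtain ⟨ω, hω, -, -⟩ := exists_omega hF
  set u0 := y + y'
  have h1 : hB hF 6 v u0 = 1 := by rw [map_add, hy1, hy4, add_zero]
  have h2 : hB hF 6 w u0 = 1 := by rw [map_add, hy2, hy3, zero_add]
  have h1' : hB hF 6 u0 v = 1 := by rw [← h_conj, h1, map_one]
  set c := hB hF 6 u0 u0 * ω
  refine ⟨u0 + c • v, ?_, ?_, ?_⟩
  · have hc : frob hF c = hB hF 6 u0 u0 * frob hF ω := by rw [map_mul, h_conj]
    simp only [map_add, LinearMap.add_apply, h_smul_left, h_smul_right, hv, h1, h1', hc, mul_zero, mul_one,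
      add_zero]
    linear_combination hB hF 6 u0 u0 * hω + hB hF 6 u0 u0 * two_eq_zero hF
  · rw [map_add, h_smul_right, hv, mul_zero, add_zero, h1]
  · rw [map_add, h_smul_right, hB_symm_zero hF hvw, mul_zero, add_zero, h2]

theorem exists_partner {v : V} (hv0 : v ≠ 0) :
    ∃ w, hB hF 6 w w = 0 ∧ hB hF 6 v w = 0 ∧ LinearIndependent F ![v, w] := by
  obtain ⟨a, hva, -, haa⟩ := exists_perp_norm_one hF v v
  obtain ⟨b, hvb, hab, hbb⟩ := exists_perp_norm_one hF v a
  refine ⟨a + b, ?_, by rw [map_add, hva, hvb, add_zero], LinearIndependent.pair_iff.2 fun s t hst => ?_⟩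
  · simp only [map_add, LinearMap.add_apply, haa, hbb, hab, hB_symm_zero hF hab, add_zero, zero_add]
    linear_combination two_eq_zero hF
  · have h := congrArg (hB hF 6 a) hst
    rw [map_add, h_smul_right, h_smul_right, map_add, haa, hab, hB_symm_zero hF hva, mul_zero, zero_add,
      add_zero, mul_one, map_zero] at h
    rw [h, zero_smul, add_zero] at hst
    exact ⟨(smul_eq_zero.1 hst).resolve_right hv0, h⟩

/-- The five transvections of a totally singular line have product one. -/
theorem five {v w : V} (hv : hB hF 6 v v = 0) (hw : hB hF 6 w w = 0) (hvw : hB hF 6 v w = 0)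
    {ω : F} (hω : ω * ω + ω + 1 = 0) (hω' : ω * frob hF ω = 1) :
    T hF v * (T hF w * (T hF (v + w) * (T hF (v + ω • w) * T hF (v + frob hF ω • w)))) = 1 := by
  have hwv : hB hF 6 w v = 0 := hB_symm_zero hF hvw
  have hs : ∀ c : F, hB hF 6 (v + c • w) (v + c • w) = 0 := fun c => by
    simp [hv, hw, hvw, hwv]
  have hs1 : hB hF 6 (v + w) (v + w) = 0 := by simpa using hs 1
  have hc' : frob hF ω = ω * ω := by rw [frob_apply, pow_two]
  refine toE_injective ?_
  rw [toE_mul, toE_mul, toE_mul, toE_mul, toE_T hF hv, toE_T hF hw, toE_T hF hs1, toE_T hF (hs ω),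
    toE_T hF (hs _), toE_one]
  refine LinearMap.ext fun y => ?_
  simp only [Module.End.mul_apply, LinearMap.add_apply, Module.End.one_apply, N_apply, map_add,
    h_smul_left, h_smul_right, frob_frob hF, hv, hw, hvw, hwv, mul_zero, add_zero]
  match_scalars
  · ring
  · linear_combination hB hF 6 w y * (hc' + hω) + 2 * hB hF 6 v y * two_eq_zero hF
  · linear_combination hB hF 6 v y * (hc' + hω)
      + (hB hF 6 w y + hB hF 6 w y * frob hF ω * ω) * two_eq_zero hF

section Lift

variable {C : Type*} [Group C] (π : C →* Cfsg.PSU 6 F 2) (hsurj : Function.Surjective π)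
  (hker : π.ker ≤ Subgroup.center C) (hexp : ∀ k ∈ π.ker, k * k = 1)

/-- A chosen preimage. -/
noncomputable def lf (s : Cfsg.SU 6 F 2) : C :=
  (hsurj (QuotientGroup.mk' (Subgroup.center (Cfsg.SU 6 F 2)) s)).choose

omit hF in
theorem proj_lf (s : Cfsg.SU 6 F 2) :
    π (lf π hsurj s) = QuotientGroup.mk' (Subgroup.center (Cfsg.SU 6 F 2)) s :=
  (hsurj _).choose_spec

omit hF in
include hker in
theorem ker_comm {k : C} (hk : k ∈ π.ker) (c : C) : k * c = c * k :=
  ((Subgroup.mem_center_iff.1 (hker hk)) c).symm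

omit hF in
include hker hexp in
theorem sq_eq_of_proj {c c' : C} (h : π c = π c') : c * c = c' * c' := by
  have hk : c'⁻¹ * c ∈ π.ker := by rw [MonoidHom.mem_ker, map_mul, map_inv, h, inv_mul_cancel]
  have e : c = c' * (c'⁻¹ * c) := (mul_inv_cancel_left c' c).symm
  conv_lhs => rw [e]
  generalize c'⁻¹ * c = k at hk
  calc c' * k * (c' * k) = c' * (k * c') * k := by simp only [mul_assoc]
    _ = c' * c' * (k * k) := by rw [ker_comm π hker hk]; simp only [mul_assoc]
    _ = c' * c' := by rw [hexp k hk, mul_one]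

include hker hexp in
theorem commute_lifts {v w : V} (hv : hB hF 6 v v = 0) (hw : hB hF 6 w w = 0)
    (hvw : hB hF 6 v w = 0) : Commute (lf π hsurj (T hF v)) (lf π hsurj (T hF w)) := by
  obtain ⟨g, hg, hgv⟩ := exists_root hF hv hw hvw
  set A := lf π hsurj (T hF v)
  set G := lf π hsurj g
  have hk : G * A * G⁻¹ * A⁻¹ ∈ π.ker := by
    rw [MonoidHom.mem_ker, map_mul, map_mul, map_mul, map_inv, map_inv, proj_lf, proj_lf, ← map_mul,
      hgv, map_mul]
    group
  set k := G * A * G⁻¹ * A⁻¹
  have hGA : G * A = k * (A * G) := by simp only [k]; group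
  have hGG : Commute A (G * G) := by
    show A * (G * G) = G * G * A
    symm
    calc G * G * A = G * (k * (A * G)) := by rw [← hGA, mul_assoc]
      _ = k * (G * A * G) := by rw [← mul_assoc, ← ker_comm π hker hk]; simp only [mul_assoc]
      _ = k * (k * (A * G) * G) := by rw [hGA]
      _ = A * (G * G) := by simp only [← mul_assoc, hexp k hk, one_mul]
  have hk' : (G * G)⁻¹ * lf π hsurj (T hF w) ∈ π.ker := by
    rw [MonoidHom.mem_ker, map_mul, map_inv, map_mul, proj_lf, proj_lf, ← map_mul, hg, inv_mul_cancel]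
  rw [show lf π hsurj (T hF w) = G * G * ((G * G)⁻¹ * lf π hsurj (T hF w)) from
    (mul_inv_cancel_left _ _).symm]
  exact hGG.mul_right (ker_comm π hker hk' A).symm

include hker hexp in
theorem sq_central {v : V} (hv : hB hF 6 v v = 0) :
    lf π hsurj (T hF v) * lf π hsurj (T hF v) ∈ π.ker := by
  rw [MonoidHom.mem_ker, map_mul, proj_lf, ← map_mul,
    show T hF v * T hF v = 1 from toE_injective (by
      rw [toE_mul, toE_T hF hv, one_add_sq hF (N_sq hF hv), toE_one]), map_one]

include hker hexp in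
theorem sq_eq_of_one {v u : V} (hv : hB hF 6 v v = 0) (hu : hB hF 6 u u = 0) (hvu : hB hF 6 v u = 1) :
    lf π hsurj (T hF u) * lf π hsurj (T hF u) = lf π hsurj (T hF v) * lf π hsurj (T hF v) := by
  have hz := sq_central hF π hsurj hker hexp hv
  set A := lf π hsurj (T hF v)
  set B := lf π hsurj (T hF u)
  set G := A * B
  have hinv : ∀ {s : V}, hB hF 6 s s = 0 → (T hF s)⁻¹ = T hF s := fun {s} hs =>
    inv_eq_of_mul_eq_one_left (toE_injective (by
      rw [toE_mul, toE_T hF hs, one_add_sq hF (N_sq hF hs), toE_one]))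
  have h : π B = π (G * A * G⁻¹) := by
    simp only [G, A, B, map_mul, map_inv, proj_lf]
    rw [← map_mul, ← map_inv, ← map_mul, ← map_mul, mul_inv_rev, hinv hv, hinv hu, T_braid hF hv hu hvu]
  rw [sq_eq_of_proj π hker hexp h]
  calc G * A * G⁻¹ * (G * A * G⁻¹) = G * (A * A) * G⁻¹ := by group
    _ = A * A * G * G⁻¹ := by rw [ker_comm π hker hz]
    _ = A * A := mul_inv_cancel_right _ _

include hker hexp in
theorem sq_eq_one {v : V} (hv : hB hF 6 v v = 0) :
    lf π hsurj (T hF v) * lf π hsurj (T hF v) = 1 := by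
  have hzk := sq_central hF π hsurj hker hexp hv
  rcases eq_or_ne v 0 with rfl | hv0
  · have hT : T hF (0 : V) = 1 := by
      rw [T, show N hF (0 : V) = 0 from LinearMap.ext fun y => by simp, el_zero hF]
    exact hexp _ (by rw [MonoidHom.mem_ker, proj_lf, hT, map_one])
  obtain ⟨w, hw, hvw, hind⟩ := exists_partner hF hv0
  obtain ⟨ω, -, hω, hω'⟩ := exists_omega hF
  have hwv : hB hF 6 w v = 0 := hB_symm_zero hF hvw
  have hs : ∀ c : F, hB hF 6 (v + c • w) (v + c • w) = 0 := fun c => by simp [hv, hw, hvw, hwv]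
  have heq : ∀ w' : V, hB hF 6 w' w' = 0 → hB hF 6 v w' = 0 → LinearIndependent F ![v, w'] →
      lf π hsurj (T hF w') * lf π hsurj (T hF w') = lf π hsurj (T hF v) * lf π hsurj (T hF v) := by
    intro w' hw' hvw' hind'
    obtain ⟨u, hu, h1, h2⟩ := exists_common hF hv hvw' hind'
    rw [← sq_eq_of_one hF π hsurj hker hexp hw' hu h2, sq_eq_of_one hF π hsurj hker hexp hv hu h1]
  have heqc : ∀ c : F, c ≠ 0 →
      lf π hsurj (T hF (v + c • w)) * lf π hsurj (T hF (v + c • w)) =
        lf π hsurj (T hF v) * lf π hsurj (T hF v) := fun c hc =>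
    heq _ (hs c) (by simp [hv, hvw]) (LinearIndependent.pair_iff.2 fun s t hst => by
      rw [smul_add, smul_smul, ← add_assoc, ← add_smul] at hst
      obtain ⟨h1, h2⟩ := LinearIndependent.pair_iff.1 hind _ _ hst
      have ht : t = 0 := (mul_eq_zero.1 h2).resolve_right hc
      exact ⟨by simpa [ht] using h1, ht⟩)
  have h1' := heqc 1 one_ne_zero
  rw [one_smul] at h1'
  have hω0 : ω ≠ 0 := left_ne_zero_of_mul_eq_one hω'
  have hω0' : frob hF ω ≠ 0 := right_ne_zero_of_mul_eq_one hω'
  set z := lf π hsurj (T hF v) * lf π hsurj (T hF v)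
  set A := lf π hsurj (T hF v) with hA
  set B := lf π hsurj (T hF w) with hB'
  set D := lf π hsurj (T hF (v + w)) with hD
  set E := lf π hsurj (T hF (v + ω • w)) with hE
  set J := lf π hsurj (T hF (v + frob hF ω • w)) with hJ
  have hcm := fun {a b : V} => commute_lifts hF π hsurj hker hexp (v := a) (w := b)
  have hs1 : hB hF 6 (v + w) (v + w) = 0 := by simpa using hs 1
  have cAB : Commute A B := hcm hv hw hvw
  have cAD : Commute A D := hcm hv hs1 (by simp [hv, hvw])
  have cAE : Commute A E := hcm hv (hs _) (by simp [hv, hvw])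
  have cAJ : Commute A J := hcm hv (hs _) (by simp [hv, hvw])
  have cBD : Commute B D := hcm hw hs1 (by simp [hw, hwv])
  have cBE : Commute B E := hcm hw (hs _) (by simp [hw, hwv])
  have cBJ : Commute B J := hcm hw (hs _) (by simp [hw, hwv])
  have cDE : Commute D E := hcm hs1 (hs _) (by simp [hv, hw, hvw, hwv])
  have cDJ : Commute D J := hcm hs1 (hs _) (by simp [hv, hw, hvw, hwv])
  have cEJ : Commute E J := hcm (hs _) (hs _) (by simp [hv, hw, hvw, hwv])
  have hP : A * (B * (D * (E * J))) ∈ π.ker := by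
    simp only [MonoidHom.mem_ker, A, B, D, E, J, map_mul, proj_lf]
    simp only [← map_mul]
    rw [five hF hv hw hvw hω hω', map_one]
  have e := hexp _ hP
  rw [(cAB.mul_right (cAD.mul_right (cAE.mul_right cAJ))).symm.mul_mul_mul_comm,
    (cBD.mul_right (cBE.mul_right cBJ)).symm.mul_mul_mul_comm,
    (cDE.mul_right cDJ).symm.mul_mul_mul_comm, cEJ.symm.mul_mul_mul_comm,
    heq w hw hvw hind, h1', heqc ω hω0, heqc _ hω0'] at e
  have hz2 : z * z = 1 := hexp _ hzk
  rw [show z * (z * (z * (z * z))) = z * z * (z * z) * z by simp only [mul_assoc], hz2, one_mul,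
    one_mul] at e
  exact e

include hker hexp in
theorem exists_lift_aux : ∀ (k : ℕ) (n : Module.End F V), SelfAdj hF n → n * n = 0 →
    finrank F (LinearMap.range n) ≤ k →
    ∃ c : C, π c = QuotientGroup.mk' (Subgroup.center (Cfsg.SU 6 F 2)) (el n) ∧ c * c = 1 ∧
      ∀ s : V, hB hF 6 s s = 0 → n s = 0 → Commute c (lf π hsurj (T hF s)) := by
  intro k
  induction k with
  | zero =>
    intro n _ _ hk
    have hn0 : n = 0 := LinearMap.range_eq_bot.1 (Submodule.finrank_eq_zero.1 (by omega))
    exact ⟨1, by rw [hn0, el_zero hF, map_one, map_one], one_mul 1, fun s _ _ => Commute.one_left _⟩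
  | succ k ih =>
    intro n hs hn hk
    by_cases hn0 : n = 0
    · exact ⟨1, by rw [hn0, el_zero hF, map_one, map_one], one_mul 1, fun s _ _ => Commute.one_left _⟩
    obtain ⟨x, hx⟩ : ∃ x, n x ≠ 0 := by
      by_contra h
      push Not at h
      exact hn0 (LinearMap.ext h)
    obtain ⟨y, hy⟩ : ∃ y, hB hF 6 (n x) y ≠ 0 := by
      by_contra h
      push Not at h
      exact hx ((hB_nondegenerate hF 6).1 _ h)
    obtain ⟨z, -, hz⟩ := exists_self_ne_zero hF hs (W := ⊤) trivial trivial hy
    set v := n z with hvdef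
    have hnv : n v = 0 := LinearMap.congr_fun hn z
    have hv : hB hF 6 v v = 0 := by rw [hvdef, hs, ← hvdef, hnv, map_zero]
    have hNn : N hF v * n = 0 := LinearMap.ext fun y => by
      simp [Module.End.mul_apply, ← hs v y, hnv]
    have hnN : n * N hF v = 0 := LinearMap.ext fun y => by simp [Module.End.mul_apply, hnv]
    set n' := n + N hF v with hn'def
    have hs' : SelfAdj hF n' := fun a b => by
      rw [hn'def, LinearMap.add_apply, LinearMap.add_apply, h_add_left, map_add, hs a b,
        selfAdj_N hF v a b]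
    have hn' : n' * n' = 0 := by
      rw [hn'def, add_mul, mul_add, mul_add, hn, hnN, hNn, N_sq hF hv, add_zero, add_zero]
    have hker' : LinearMap.ker n ≤ LinearMap.ker n' := fun a ha => by
      rw [LinearMap.mem_ker] at ha ⊢
      rw [hn'def, LinearMap.add_apply, ha, N_apply, hvdef, hs, ha, map_zero, zero_smul, add_zero]
    have hlt : LinearMap.ker n < LinearMap.ker n' := lt_of_le_of_ne hker' fun e => by
      have hz' : z ∈ LinearMap.ker n' := by
        rw [LinearMap.mem_ker, hn'def, LinearMap.add_apply, N_apply,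
          show hB hF 6 v z = 1 from hz, one_smul, ← hvdef, add_self' hF]
      rw [← e, LinearMap.mem_ker] at hz'
      rw [hvdef, hz'] at hz
      simp at hz
    have h1 := Submodule.finrank_lt_finrank_of_lt hlt
    have h2 := LinearMap.finrank_range_add_finrank_ker n
    have h3 := LinearMap.finrank_range_add_finrank_ker n'
    obtain ⟨c, hc, hc2, hcomm⟩ := ih n' hs' hn' (by omega)
    have hn'v : n' v = 0 := by simp [hn'def, hnv, hv]
    have hcv : Commute c (lf π hsurj (T hF v)) := hcomm v hv hn'v
    refine ⟨lf π hsurj (T hF v) * c, ?_, ?_, fun s hss hsn => ?_⟩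
    · rw [map_mul, proj_lf, hc, ← map_mul]
      congr 1
      refine toE_injective ?_
      rw [toE_mul, toE_T hF hv, toE_el hF hs' hn', toE_el hF hs hn, hn'def, add_mul, one_mul, mul_add,
        mul_add, mul_one, hNn, N_sq hF hv, zero_add, add_zero, add_assoc, add_assoc, add_self_end hF,
        add_zero]
    · rw [hcv.mul_mul_mul_comm, hc2, mul_one, sq_eq_one hF π hsurj hker hexp hv]
    · have hvs : hB hF 6 v s = 0 := by rw [hvdef, hs, hsn, map_zero]
      refine Commute.mul_left (commute_lifts hF π hsurj hker hexp hv hss hvs) (hcomm s hss ?_)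
      rw [hn'def, LinearMap.add_apply, hsn, N_apply, hvs, zero_smul, add_zero]

end Lift

/-- In a central extension by a group of exponent two, every involution lifts to an involution. -/
theorem exists_lift {C : Type*} [Group C] (π : C →* Cfsg.PSU 6 F 2) (hsurj : Function.Surjective π)
    (hker : π.ker ≤ Subgroup.center C) (hexp : ∀ k ∈ π.ker, k * k = 1) (x : Cfsg.PSU 6 F 2)
    (hx : x * x = 1) : ∃ c : C, π c = x ∧ c * c = 1 := by
  obtain ⟨s, rfl⟩ := QuotientGroup.mk'_surjective (Subgroup.center (Cfsg.SU 6 F 2)) x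
  have hc : s * s ∈ Subgroup.center (Cfsg.SU 6 F 2) := by
    rwa [← map_mul, QuotientGroup.mk'_apply, QuotientGroup.eq_one_iff] at hx
  have h3 : (s * s) ^ 3 = 1 := by
    have h := pow_card_eq_one' (G := Subgroup.center (Cfsg.SU 6 F 2)) (x := ⟨_, hc⟩)
    rw [card_center_SU (q := 2) hF (by norm_num)] at h
    exact congrArg Subtype.val h
  set t := s ^ 3 with ht
  have ht2 : t * t = 1 := by rw [ht, ← (Commute.refl s).mul_pow, h3]
  have htx : QuotientGroup.mk' (Subgroup.center (Cfsg.SU 6 F 2)) s =
      QuotientGroup.mk' (Subgroup.center (Cfsg.SU 6 F 2)) t := by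
    rw [ht, map_pow, pow_succ, pow_two, hx, one_mul]
  have hu : toE t * toE t = 1 := by rw [← toE_mul, ht2, toE_one]
  set n := toE t + 1 with hn
  have hs : SelfAdj hF n := fun a b => by
    have h : hB hF 6 (toE t a) b = hB hF 6 a (toE t b) := by
      rw [← toE_isometry hF t (toE t a) b, ← Module.End.mul_apply, hu, Module.End.one_apply]
    rw [hn, LinearMap.add_apply, LinearMap.add_apply, Module.End.one_apply, Module.End.one_apply,
      h_add_left, map_add, h]
  have hnn : n * n = 0 := by
    rw [hn, add_mul, one_mul, mul_add, mul_one, hu, add_comm (1 : Module.End F V), add_self_end hF]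
  obtain ⟨c, h1, h2, -⟩ := exists_lift_aux hF π hsurj hker hexp _ n hs hnn le_rfl
  refine ⟨c, ?_, h2⟩
  rw [h1, htx, show el n = t from toE_injective (by
    rw [toE_el hF hs hnn, hn, add_comm (toE t), ← add_assoc, add_self_end hF, zero_add])]

end Cfsg.Lib.Linear.UnitarySix
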